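import Mathlib

/-!
# A separably generated finitely generated field extension is the fraction field of a
hypersurface ring (helper2)
-/

set_option autoImplicit false
set_option backward.isDefEq.respectTransparency.types false
set_option synthInstance.maxHeartbeats 400000
set_option maxHeartbeats 4000000
set_option linter.style.haveILetI false
set_option linter.unusedSectionVars false
set_option linter.unusedVariables false

universe u
open Polynomial IntermediateField

namespace Groth.Agent.Helper2.SepHyp

variable (k : Type u) [Field k] (K : Type u) [Field K] [Algebra k K]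

/-- **Algebraic core of S10835.** -/
theorem exists_hypersurface [Algebra.EssFiniteType k K] (d : ℕ) (s : Fin d → K)
    (hs : IsTranscendenceBasis k s)
    (hsep : Algebra.IsSeparable ↥(IntermediateField.adjoin k (Set.range s)) K) :
    ∃ (g : Polynomial (MvPolynomial (Fin d) k)) (ψ : AdjoinRoot g →ₐ[k] K), g.Monic ∧
      Irreducible (g.map (algebraMap (MvPolynomial (Fin d) k)
        (FractionRing (MvPolynomial (Fin d) k)))) ∧
      (g.map (algebraMap (MvPolynomial (Fin d) k)
        (FractionRing (MvPolynomial (Fin d) k)))).Separable ∧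
      Function.Injective ψ ∧ ∀ x : K, ∃ a b : AdjoinRoot g, ψ b ≠ 0 ∧ x * ψ b = ψ a := by
  classical
  set F := IntermediateField.adjoin k (Set.range s) with hF
  let P := MvPolynomial (Fin d) k
  let φ : P →ₐ[k] K := MvPolynomial.aeval s
  have hφ : Function.Injective φ := hs.1
  have hφF : ∀ p : P, φ p ∈ F := by
    intro p
    have h1 : φ p ∈ Algebra.adjoin k (Set.range s) := by
      rw [Algebra.adjoin_range_eq_range_aeval]
      exact ⟨p, rfl⟩
    exact IntermediateField.algebra_adjoin_le_adjoin k _ h1
  letI algPK : Algebra P K := φ.toRingHom.toAlgebra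
  let φF : P →+* F := φ.toRingHom.codRestrict F.toSubring hφF
  letI algPF : Algebra P F := φF.toAlgebra
  haveI : IsScalarTower P F K := IsScalarTower.of_algebraMap_eq fun p => rfl
  haveI : IsScalarTower k P K := IsScalarTower.of_algebraMap_eq fun c => (φ.commutes c).symm
  have hφF_inj : Function.Injective (algebraMap P F) := by
    intro a b hab
    apply hφ
    exact congrArg Subtype.val hab
  haveI : FaithfulSMul P F := (faithfulSMul_iff_algebraMap_injective P F).mpr hφF_inj
  haveI : FaithfulSMul P K := (faithfulSMul_iff_algebraMap_injective P K).mpr hφ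
  haveI : IsFractionRing P F := by
    refine IsFractionRing.of_field P F fun z => ?_
    obtain ⟨r, t, hrt⟩ := (IntermediateField.mem_adjoin_range_iff k s z.1).mp z.2
    refine ⟨r, t, ?_⟩
    apply Subtype.ext
    rw [hrt]
    rfl
  -- finiteness
  haveI : Algebra.IsAlgebraic F K := hs.isAlgebraic_field
  haveI : Algebra.EssFiniteType F K := Algebra.EssFiniteType.of_comp k F K
  haveI : Module.Finite F K := Algebra.finite_of_essFiniteType_of_isAlgebraic
  obtain ⟨α, hα⟩ := Field.exists_primitive_element F K
  have hαalg : IsAlgebraic P α :=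
    (IsFractionRing.isAlgebraic_iff P F K).mpr (Algebra.IsAlgebraic.isAlgebraic α)
  obtain ⟨y, hy0, hyint⟩ := hαalg.exists_integral_multiple
  set β : K := y • α with hβ
  have hβ' : β = φ y * α := Algebra.smul_def y α
  have hφy : φ y ≠ 0 := fun h => hy0 (hφ (by rw [h, map_zero]))
  have hprim : F⟮β⟯ = ⊤ := by
    rw [eq_top_iff, ← hα]
    rw [IntermediateField.adjoin_simple_le_iff]
    have h1 : β ∈ F⟮β⟯ := IntermediateField.mem_adjoin_simple_self F β
    have h2 : φ y ∈ F⟮β⟯ := by
      have : φ y = algebraMap F K ⟨φ y, hφF y⟩ := rfl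
      rw [this]
      exact IntermediateField.algebraMap_mem _ _
    have h3 : α = (φ y)⁻¹ * β := by
      rw [hβ', ← mul_assoc, inv_mul_cancel₀ hφy, one_mul]
    rw [h3]
    exact mul_mem (inv_mem h2) h1
  -- the minimal polynomial
  let g : P[X] := minpoly P β
  have hgm : g.Monic := minpoly.monic hyint
  have hgF : minpoly F β = g.map (algebraMap P F) :=
    minpoly.isIntegrallyClosed_eq_field_fractions' F hyint
  have hirr : Irreducible (g.map (algebraMap P (FractionRing P))) :=
    (hgm.irreducible_iff_irreducible_map_fraction_map).1 (minpoly.irreducible hyint)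
  have hsepF : (g.map (algebraMap P F)).Separable := by
    rw [← hgF]
    exact Algebra.IsSeparable.isSeparable F β
  have hsepQ : (g.map (algebraMap P (FractionRing P))).Separable := by
    let e : FractionRing P ≃ₐ[P] F := FractionRing.algEquiv P F
    have h1 : (g.map (algebraMap P (FractionRing P))).map (e : FractionRing P →+* F) =
        g.map (algebraMap P F) := by
      rw [Polynomial.map_map]
      congr 1
      exact RingHom.ext fun p => e.commutes p
    rw [← h1] at hsepF
    exact (Polynomial.separable_map (e : FractionRing P →+* F)).mp hsepF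
  -- the map from the hypersurface ring
  have hgβ : aeval β g = 0 := minpoly.aeval P β
  let ψP : AdjoinRoot g →ₐ[P] K := AdjoinRoot.liftAlgHom g (Algebra.ofId P K) β (by
    have := hgβ
    rw [aeval_def] at this
    exact this)
  haveI : IsScalarTower k P (AdjoinRoot g) := inferInstance
  let ψ : AdjoinRoot g →ₐ[k] K := ψP.restrictScalars k
  have hψmk : ∀ q : P[X], ψ (AdjoinRoot.mk g q) = aeval β q := by
    intro q
    show ψP (AdjoinRoot.mk g q) = _
    simp only [ψP, AdjoinRoot.liftAlgHom_mk, aeval_def]
    rfl
  have hψinj : Function.Injective ψ := by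
    rw [injective_iff_map_eq_zero]
    intro a ha
    obtain ⟨q, rfl⟩ := AdjoinRoot.mk_surjective a
    rw [hψmk] at ha
    rw [AdjoinRoot.mk_eq_zero]
    exact minpoly.isIntegrallyClosed_dvd hyint ha
  refine ⟨g, ψ, hgm, hirr, hsepQ, hψinj, fun x => ?_⟩
  -- every element is a fraction
  have hβintF : IsIntegral F β := hyint.tower_top
  have hx : x ∈ Algebra.adjoin F {β} := by
    rw [← IntermediateField.adjoin_simple_toSubalgebra_of_isAlgebraic hβintF.isAlgebraic, hprim]
    trivial
  rw [Algebra.adjoin_singleton_eq_range_aeval] at hx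
  obtain ⟨q, rfl⟩ := hx
  obtain ⟨b, hb, hbq⟩ := IsLocalization.integerNormalization_spec (nonZeroDivisors P) q
  refine ⟨AdjoinRoot.mk g (IsLocalization.integerNormalization (nonZeroDivisors P) q),
    AdjoinRoot.mk g (C b), ?_, ?_⟩
  · rw [hψmk, aeval_C]
    intro h0
    have : b = 0 := hφ (by rw [map_zero]; exact h0)
    exact (nonZeroDivisors.ne_zero hb) this
  · rw [hψmk, hψmk, aeval_C]
    have h1 : aeval β (IsLocalization.integerNormalization (nonZeroDivisors P) q) =
        aeval β ((IsLocalization.integerNormalization (nonZeroDivisors P) q).map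
          (algebraMap P F)) := by
      rw [aeval_map_algebraMap]
    rw [h1, hbq]
    have h2 : b • q = C (algebraMap P F b) * q := by
      rw [← Polynomial.smul_eq_C_mul, algebraMap_smul]
    rw [h2, map_mul, aeval_C, mul_comm]
    rfl

end Groth.Agent.Helper2.SepHyp
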