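import Mathlib
import Groth.Prelude.Def_CurvBase
import Groth.Agent.Lib.Helper2.SepHyp.Alg
import Groth.Agent.Lib.Helper2.BiratOpen.Main
import Groth.Agent.Lib.Helper3.GeoReg4

/-!
# A variety with separably generated function field is birational to a hypersurface (S10835)
(helper2)
-/

set_option autoImplicit false
set_option backward.isDefEq.respectTransparency.types false
set_option synthInstance.maxHeartbeats 400000
set_option maxHeartbeats 4000000
set_option linter.style.haveILetI false
set_option linter.unusedSectionVars false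
set_option linter.unusedVariables false

universe u
open CategoryTheory AlgebraicGeometry
attribute [local instance] Curv2.stalkAlgebra

namespace Groth.Agent.Helper2.SepHyp

open Groth.Agent.Helper3.GeoReg

/-- the function field of a scheme locally of finite type over a field is finitely generated -/
theorem essFiniteType_stalk (k : Type u) [Field k] (X : Scheme.{u})
    [X.Over (Spec (CommRingCat.of k))] [LocallyOfFiniteType (X ↘ Spec (CommRingCat.of k))]
    (x : X) : Algebra.EssFiniteType k (X.presheaf.stalk x) := by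
  rw [← RingHom.essFiniteType_algebraMap]
  show (Curv2.stalkMap k X x).EssFiniteType
  rw [stalkMap_eq_comp]
  refine RingHom.EssFiniteType.comp ?_ (LocallyOfFiniteType.stalkMap _ _)
  exact (RingHom.FiniteType.of_surjective _
    (fieldToStalk_bijective k ((X ↘ Spec (CommRingCat.of k)) x)).2).essFiniteType

/-- **S10835** -/
theorem S10835_main (k : Type u) [Field k]
    (X : Scheme.{u}) [X.Over (Spec (CommRingCat.of k))] [IsIntegral X]
    [LocallyOfFiniteType (X ↘ Spec (CommRingCat.of k))]
    (d : ℕ) (s : Fin d → X.presheaf.stalk (genericPoint X)) (hs : IsTranscendenceBasis k s)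
    (hsep : Algebra.IsSeparable ↥(IntermediateField.adjoin k (Set.range s))
      (X.presheaf.stalk (genericPoint X))) :
    ∃ (g : Polynomial (MvPolynomial (Fin d) k)), g.Monic ∧
      Irreducible (g.map (algebraMap (MvPolynomial (Fin d) k)
        (FractionRing (MvPolynomial (Fin d) k)))) ∧
      (g.map (algebraMap (MvPolynomial (Fin d) k)
        (FractionRing (MvPolynomial (Fin d) k)))).Separable ∧
      ∃ (U : X.Opens) (V : (Spec (CommRingCat.of (AdjoinRoot g))).Opens)
        (e : (U : Scheme.{u}) ≅ (V : Scheme.{u})),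
        (U : Set X).Nonempty ∧ (V : Set (Spec (CommRingCat.of (AdjoinRoot g)))).Nonempty ∧
        e.hom ≫ V.ι ≫ Spec.map (CommRingCat.ofHom (algebraMap k (AdjoinRoot g))) =
          U.ι ≫ (X ↘ Spec (CommRingCat.of k)) := by
  haveI := essFiniteType_stalk k X (genericPoint X)
  obtain ⟨g, ψ, hgm, hirr, hsepg, hψinj, hfrac⟩ :=
    exists_hypersurface k (X.presheaf.stalk (genericPoint X)) d s hs hsep
  refine ⟨g, hgm, hirr, hsepg, ?_⟩
  haveI hdom : IsDomain (AdjoinRoot g) := hψinj.isDomain ψ.toRingHom
  haveI : IsDomain (CommRingCat.of (AdjoinRoot g)) := hdom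
  letI ovY : (Spec (CommRingCat.of (AdjoinRoot g))).Over (Spec (CommRingCat.of k)) :=
    ⟨Spec.map (CommRingCat.ofHom (algebraMap k (AdjoinRoot g)))⟩
  have hYs : ((Spec (CommRingCat.of (AdjoinRoot g))) ↘ Spec (CommRingCat.of k)) =
      Spec.map (CommRingCat.ofHom (algebraMap k (AdjoinRoot g))) := rfl
  haveI : IsIntegral (Spec (CommRingCat.of (AdjoinRoot g))) := inferInstance
  haveI hft : Algebra.FiniteType k (AdjoinRoot g) := by
    haveI : Algebra.FiniteType (MvPolynomial (Fin d) k) (AdjoinRoot g) :=
      Algebra.FiniteType.of_surjective (AdjoinRoot.mkₐ g) AdjoinRoot.mk_surjective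
    exact Algebra.FiniteType.trans (inferInstance : Algebra.FiniteType k (MvPolynomial (Fin d) k))
      inferInstance
  haveI : LocallyOfFiniteType ((Spec (CommRingCat.of (AdjoinRoot g))) ↘
      Spec (CommRingCat.of k)) := by
    rw [hYs, HasRingHomProperty.Spec_iff (P := @LocallyOfFiniteType)]
    exact (RingHom.finiteType_algebraMap).mpr hft
  -- the isomorphism of function fields
  letI algAK : Algebra (AdjoinRoot g) (X.presheaf.stalk (genericPoint X)) := ψ.toRingHom.toAlgebra
  haveI : FaithfulSMul (AdjoinRoot g) (X.presheaf.stalk (genericPoint X)) :=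
    (faithfulSMul_iff_algebraMap_injective _ _).mpr hψinj
  haveI : IsFractionRing (AdjoinRoot g) (X.presheaf.stalk (genericPoint X)) := by
    refine IsFractionRing.of_field _ _ fun z => ?_
    obtain ⟨a, b, hb, hab⟩ := hfrac z
    exact ⟨a, b, by
      show z = ψ a / ψ b
      rw [eq_div_iff hb]; exact hab⟩
  letI algAL : Algebra (AdjoinRoot g)
      (Spec (CommRingCat.of (AdjoinRoot g))).functionField :=
    instAlgebraCarrierFunctionFieldSpec (CommRingCat.of (AdjoinRoot g))
  haveI : IsFractionRing (AdjoinRoot g) (Spec (CommRingCat.of (AdjoinRoot g))).functionField :=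
    functionField_isFractionRing_of_affine (CommRingCat.of (AdjoinRoot g))
  let eAlg : (X.presheaf.stalk (genericPoint X)) ≃ₐ[AdjoinRoot g]
      (Spec (CommRingCat.of (AdjoinRoot g))).functionField :=
    IsLocalization.algEquiv (nonZeroDivisors (AdjoinRoot g)) _ _
  let e : X.functionField ≅ (Spec (CommRingCat.of (AdjoinRoot g))).functionField :=
    eAlg.toRingEquiv.toCommRingCatIso
  have he : e.hom.hom.comp (Curv2.stalkMap k X (genericPoint X)) =
      Curv2.stalkMap k (Spec (CommRingCat.of (AdjoinRoot g)))
        (genericPoint (Spec (CommRingCat.of (AdjoinRoot g)))) := by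
    ext c
    have h1 : Curv2.stalkMap k X (genericPoint X) c =
        algebraMap (AdjoinRoot g) (X.presheaf.stalk (genericPoint X))
          (algebraMap k (AdjoinRoot g) c) := (ψ.commutes c).symm
    have h2 : e.hom.hom (Curv2.stalkMap k X (genericPoint X) c) =
        algebraMap (AdjoinRoot g) (Spec (CommRingCat.of (AdjoinRoot g))).functionField
          (algebraMap k (AdjoinRoot g) c) := by
      rw [h1]
      exact eAlg.commutes _
    rw [RingHom.comp_apply, h2]
    simp only [Curv2.stalkMap, Coh.toGlobal, RingHom.comp_apply]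
    have h3 := congrArg (fun φ => φ.hom c)
      (Scheme.ΓSpecIso_inv_naturality (CommRingCat.ofHom (algebraMap k (AdjoinRoot g))))
    simp only [CommRingCat.hom_comp, RingHom.comp_apply, CommRingCat.hom_ofHom] at h3
    rw [hYs, ← h3]
    rfl
  obtain ⟨U, V, hU, φ, hφ⟩ := Groth.Agent.Lib.Helper2.BiratOpen.main k X
    (Spec (CommRingCat.of (AdjoinRoot g))) e he
  refine ⟨U, V, φ, hU, ?_, hφ⟩
  obtain ⟨x, hx⟩ := hU
  exact ⟨(φ.hom ⟨x, hx⟩).1, (φ.hom ⟨x, hx⟩).2⟩

end Groth.Agent.Helper2.SepHyp
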